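import Groth.Agent.KRRPBLib.Chart
import Groth.Agent.UPLib.ProjSpace
import Groth.Agent.PnEmb.Criterion
import Groth.Agent.Coherent.ProjSpaceBC
import Groth.Agent.RelVALib.UPFunctor
import Groth.Agent.CohCmpLib.Degree0
import Groth.Agent.Coherent.CohBC.Relative

/-!
# A projective bundle is a projective space over affine opens with a basis
-/

set_option autoImplicit false
set_option linter.unusedSectionVars false
set_option linter.style.haveILetI false
set_option backward.isDefEq.respectTransparency.types false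
set_option maxHeartbeats 2000000

universe u

open AlgebraicGeometry CategoryTheory TopologicalSpace Opposite
open Groth.Agent.Coherent Groth.Agent.PicLib Groth.Agent.AmpleLib Groth.Agent.KRRPBLib

namespace Groth.Agent.ProjBundle14

variable {X P : Scheme.{u}} {E : X.Modules} {π : P ⟶ X} {O1 : P.Modules}
  {q : (Scheme.Modules.pullback π).obj E ⟶ O1}

/-- Over an affine open with a basis, a projective bundle is `ℙ^m` with `O(1)`. -/
theorem exists_projSquare [Coh.IsQCoh E] (hP : KRR.IsProjBundle π E O1 q) {U : X.Opens} (hU : IsAffineOpen U)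
    {m : ℕ} (b : Module.Basis (Fin (m + 1)) Γ(X, U) Γ(E, U)) :
    ∃ g : CohB1.ProjSpace m Γ(X, U) ⟶ P, IsPullback g (CohB1.ProjSpace.toSpec m Γ(X, U)) π hU.fromSpec ∧
      Nonempty ((Scheme.Modules.pullback g).obj O1 ≅ Twist.twistProjSpace m Γ(X, U) 1) := by
  classical
  let R : Type u := Γ(X, U)
  let PN := CohB1.ProjSpace m R
  let N : PN.Modules := Twist.twistProjSpace m R 1
  let x : Fin (m + 1) → Γ(N, ⊤) := fun i => ProjUP.coord m R i
  have hinv := isInvertible_of_rankOne hP.invertible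
  let Ω : P.Opens := π ⁻¹ᵁ U
  let qP : Ω.toScheme ⟶ Spec (CommRingCat.of R) := toSpecSections π hU
  have hsq : IsPullback Ω.ι qP π hU.fromSpec := isPullback_toSpecSections π hU
  let L : Ω.toScheme.Modules := (Scheme.Modules.pullback Ω.ι).obj O1
  have htop : (⊤ : Ω.toScheme.Opens) ≤ Ω.ι ⁻¹ᵁ Ω := (Scheme.Opens.ι_preimage_self Ω).ge
  let s : Fin (m + 1) → Γ(L, ⊤) := fun i => resM L htop (PicLib.pullSec Ω.ι (sec q (b i)))
  have hcov : ∀ y, ∃ i, y ∈ glocus L (s i) := fun y => by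
    obtain ⟨i, hi⟩ := exists_mem_D hP b (show Ω.ι y ∈ π ⁻¹ᵁ U from y.2) hU
    refine ⟨i, (le_glocus_iff (s i) (Ω.ι ⁻¹ᵁ D q (b i))).2 ?_ hi⟩
    have := pullSec_gen q hinv Ω.ι (b i)
    rwa [resM_resM]
  obtain ⟨r, hr, τ, hτ⟩ := UPLib.exists_hom_projSpace m qP (PicLoc.isInvertible_pullback Ω.ι hinv) s hcov
  let g₀ : PN ⟶ U.toScheme := CohB1.ProjSpace.toSpec m R ≫ hU.isoSpec.inv
  let k : PN ⟶ X := g₀ ≫ U.ι
  have hk : k = CohB1.ProjSpace.toSpec m R ≫ hU.fromSpec := by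
    show (_ ≫ _) ≫ _ = _
    rw [Category.assoc, hU.isoSpec_inv_ι]
  obtain ⟨t, ht⟩ := exists_hom_basis hU b g₀ N x
  have hktop : k ⁻¹ᵁ U = ⊤ := top_le_iff.1 fun y _ => (g₀ y).2
  have hepi : Epi (((Scheme.Modules.pullbackPushforwardAdjunction k).homEquiv E N).symm t) :=
    RelVALib.epi_of_exists_gen _ t fun y => by
      obtain ⟨i, hi⟩ := UPLib.exists_degOne_projSpace (R := CommRingCat.of R) m y
      refine ⟨U, b i, Proj.basicOpen _ (MvPolynomial.X i), le_top.trans hktop.ge, hi, ?_⟩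
      rw [ht i]
      erw [resM_resM]
      have e := PnEmb.preimage_chartOpen (𝟙 PN) ((Scheme.Modules.pullbackId PN).app N)
        (fun l => CohCmpLib.pullbackId_hom_app_pullSec N ⊤ (x l)) i
      exact (le_glocus_iff (x i) _).1 e.le
  have hN : PicF.IsInvertible N := Coherent.isInvertible_twistProjSpaceZ m 1 R
  obtain ⟨gm, ⟨hgm, τg, hτg⟩, -⟩ := exists_classifies hP k hN t hepi
  have hgmU : (⊤ : PN.Opens) ≤ gm ⁻¹ᵁ (π ⁻¹ᵁ U) := hktop.ge.trans (RelVALib.ge_of_over hgm U)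
  have hτg' : ∀ i, τg.hom.app ⊤ (resM _ hgmU (PicLib.pullSec gm (sec q (b i)))) = x i := fun i => by
    rw [app_resM, show τg.hom.app _ (PicLib.pullSec gm (sec q (b i))) = _ from hτg U hU (b i), resM_resM, ht i,
      resM_resM]
    exact resM_self N _ _
  let g' : PN ⟶ Ω.toScheme := IsOpenImmersion.lift Ω.ι gm (by
    rw [Scheme.Opens.range_ι]; rintro _ ⟨y, rfl⟩; exact hgmU (Set.mem_univ y))
  have hg' : g' ≫ Ω.ι = gm := IsOpenImmersion.lift_fac _ _ _
  -- `r ≫ gm = Ω.ι`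
  have h2 : r ≫ gm = Ω.ι := by
    have hover : (r ≫ gm) ≫ π = Ω.ι ≫ π := by
      rw [Category.assoc, hgm, hk, ← Category.assoc, hr]
      exact hsq.w.symm
    obtain ⟨c, hc⟩ := RelVALib.exists_compIso r gm (r ≫ gm) rfl O1
    let τ₁ : (Scheme.Modules.pullback (r ≫ gm)).obj O1 ≅ L := c ≪≫ (Scheme.Modules.pullback r).mapIso τg ≪≫ τ
    obtain ⟨t₁, ht₁⟩ := RelVALib.exists_classified (φ := adjunct q) (r ≫ gm) hover τ₁
    obtain ⟨t₂, ht₂⟩ := RelVALib.exists_classified (φ := adjunct q) Ω.ι rfl (Iso.refl L)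
    have hΩ : (Ω.ι ≫ π) ⁻¹ᵁ U = ⊤ := Scheme.Opens.ι_preimage_self Ω
    have ht : t₁ = t₂ := by
      refine hom_ext_basis hU b _ hΩ _ _ fun i => ?_
      have key : ∀ (h0 : (⊤ : Ω.toScheme.Opens) ≤ (Ω.ι ≫ π) ⁻¹ᵁ U) (a a' : Γ(L, (Ω.ι ≫ π) ⁻¹ᵁ U)),
          resM L h0 a = resM L h0 a' → a = a' := fun h0 a a' haa => by
        have h1 := congrArg (resM L (le_top : (Ω.ι ≫ π) ⁻¹ᵁ U ≤ ⊤)) haa
        rwa [resM_resM, resM_resM, resM_self, resM_self] at h1
      refine key hΩ.ge _ _ ?_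
      have hle : (⊤ : Ω.toScheme.Opens) ≤ (r ≫ gm) ⁻¹ᵁ (π ⁻¹ᵁ U) :=
        (show (⊤ : Ω.toScheme.Opens) ≤ r ⁻¹ᵁ ⊤ from le_rfl).trans (r.preimage_mono hgmU)
      have e1 := congrArg (resM L hle) (ht₁ U hU (b i))
      have e2 := congrArg (resM L htop) (ht₂ U hU (b i))
      rw [← app_resM, resM_resM] at e1 e2
      refine e1.symm.trans (Eq.trans ?_ e2)
      show τ.hom.app ⊤ (((Scheme.Modules.pullback r).map τg.hom).app ⊤
        (c.hom.app ⊤ (resM _ hle (PicLib.pullSec (r ≫ gm) (sec q (b i)))))) = s i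
      rw [app_resM, hc _ _ le_rfl, resM_resM]
      have e3 : resM _ (le_rfl.trans hle : (⊤ : Ω.toScheme.Opens) ≤ r ⁻¹ᵁ (gm ⁻¹ᵁ (π ⁻¹ᵁ U)))
          (PicLib.pullSec r (PicLib.pullSec gm (sec q (b i)))) =
          PicLib.pullSec r (U := ⊤) (resM _ hgmU (PicLib.pullSec gm (sec q (b i)))) :=
        resM_pullSec r hgmU _
      rw [e3]
      refine (congrArg (τ.hom.app ⊤) ((RelVALib.map_app_pullSec r τg.hom ⊤ _).trans
        (congrArg (PicLib.pullSec r (U := ⊤)) (hτg' i)))).trans ?_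
      exact hτ i
    have hepi₂ : Epi (((Scheme.Modules.pullbackPushforwardAdjunction (Ω.ι ≫ π)).homEquiv E L).symm t₂) := by
      refine RelVALib.epi_of_exists_gen _ t₂ fun y => ?_
      obtain ⟨i, hi⟩ := hcov y
      refine ⟨U, b i, glocus L (s i), le_top.trans hΩ.ge, hi, ?_⟩
      have e2 := congrArg (resM L htop) (ht₂ U hU (b i))
      rw [← app_resM, resM_resM] at e2
      have e3 := congrArg (resM L (le_top : glocus L (s i) ≤ ⊤)) e2
      rw [resM_resM] at e3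
      exact e3 ▸ isGen_glocus (s i)
    obtain ⟨r₀, -, huniq⟩ := exists_classifies hP (Ω.ι ≫ π) (PicLoc.isInvertible_pullback Ω.ι hinv) t₂ hepi₂
    exact (huniq _ ⟨hover, τ₁, ht ▸ ht₁⟩).trans (huniq Ω.ι ⟨rfl, Iso.refl L, ht₂⟩).symm
  -- `g' ≫ r = 𝟙`
  have hbase : g' ≫ qP = CohB1.ProjSpace.toSpec m R := by
    rw [← cancel_mono hU.fromSpec, Category.assoc]
    refine (congrArg (g' ≫ ·) hsq.w.symm).trans ?_
    rw [← Category.assoc, hg', hgm, hk]
  have h1 : g' ≫ r = 𝟙 PN := by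
    obtain ⟨c₁, hc₁⟩ := RelVALib.exists_compIso g' r (g' ≫ r) rfl N
    obtain ⟨c₂, hc₂⟩ := RelVALib.exists_compIso g' Ω.ι gm hg' O1
    let θ : (Scheme.Modules.pullback (g' ≫ r)).obj N ≅ (Scheme.Modules.pullback (𝟙 PN)).obj N :=
      c₁ ≪≫ (Scheme.Modules.pullback g').mapIso τ ≪≫ c₂.symm ≪≫ τg ≪≫ ((Scheme.Modules.pullbackId PN).app N).symm
    refine UPLib.eq_of_iso_projSpace m (by rw [Category.assoc, hr, hbase, Category.id_comp]) θ fun i => ?_
    show ((Scheme.Modules.pullbackId PN).inv.app N).app ⊤ (τg.hom.app ⊤ (c₂.inv.app ⊤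
      (((Scheme.Modules.pullback g').map τ.hom).app ⊤ (c₁.hom.app ⊤ (PicLib.pullSec (g' ≫ r) (U := ⊤) (x i)))))) =
      PicLib.pullSec (𝟙 PN) (U := ⊤) (x i)
    have e1 : c₁.hom.app ⊤ (PicLib.pullSec (g' ≫ r) (U := ⊤) (x i)) =
        PicLib.pullSec g' (U := ⊤) (PicLib.pullSec r (U := ⊤) (x i)) :=
      (hc₁ ⊤ (x i) le_rfl).trans (resM_self _ _ _)
    have e2 : ((Scheme.Modules.pullback g').map τ.hom).app ⊤ (PicLib.pullSec g' (U := ⊤) (PicLib.pullSec r (U := ⊤) (x i))) =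
        PicLib.pullSec g' (U := ⊤) (s i) :=
      (RelVALib.map_app_pullSec g' τ.hom ⊤ _).trans (congrArg (PicLib.pullSec g' (U := ⊤)) (hτ i))
    have e3 : c₂.hom.app ⊤ (resM _ hgmU (PicLib.pullSec gm (sec q (b i)))) = PicLib.pullSec g' (U := ⊤) (s i) := by
      rw [app_resM, hc₂ _ _ (show gm ⁻¹ᵁ Ω ≤ g' ⁻¹ᵁ (Ω.ι ⁻¹ᵁ Ω) by rw [← hg']; rfl), resM_resM]
      exact resM_pullSec g' htop _
    rw [e1, e2, ← e3]
    rw [show c₂.inv.app ⊤ (c₂.hom.app ⊤ (resM _ hgmU (PicLib.pullSec gm (sec q (b i))))) = _ from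
      ConcreteCategory.congr_hom (congrArg (fun z => Scheme.Modules.Hom.app z ⊤) c₂.hom_inv_id) _]
    refine (congrArg _ (hτg' i)).trans ?_
    have e4 := CohCmpLib.pullbackId_hom_app_pullSec N ⊤ (x i)
    conv_lhs => rw [← e4]
    exact ConcreteCategory.congr_hom
      (congrArg (fun z => Scheme.Modules.Hom.app z ⊤) ((Scheme.Modules.pullbackId PN).hom_inv_id_app N)) _
  have hrg : r ≫ g' = 𝟙 _ := by
    rw [← cancel_mono Ω.ι, Category.assoc, hg', h2, Category.id_comp]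
  refine ⟨gm, ?_, ⟨τg⟩⟩
  exact hsq.of_iso ⟨r, g', hrg, h1⟩ (Iso.refl _) (Iso.refl _) (Iso.refl _)
    (by simp [h2]) (by simpa using hr.symm) (by simp) (by simp)

end Groth.Agent.ProjBundle14
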